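import Mathlib
import Groth.Agent.Lib.Helper9.ThickAff

set_option autoImplicit false
set_option backward.isDefEq.respectTransparency.types false
set_option synthInstance.maxHeartbeats 400000
set_option maxHeartbeats 4000000
set_option linter.style.haveILetI false
set_option linter.unusedSectionVars false
set_option linter.unusedVariables false
set_option linter.unusedSimpArgs false
set_option linter.unnecessarySimpa false

universe u
open CategoryTheory CategoryTheory.Limits AlgebraicGeometry TopologicalSpace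

namespace Groth.Agent.Helper2.ArtThick

section Alg

/-- Nakayama for nilpotent ideals. -/
lemma eq_top_of_sup_smul_eq_top {A M : Type*} [CommRing A] [AddCommGroup M] [Module A M]
    (I : Ideal A) (hI : IsNilpotent I) (N : Submodule A M)
    (h : N ⊔ I • (⊤ : Submodule A M) = ⊤) : N = ⊤ := by
  obtain ⟨n, hn⟩ := hI
  have key : ∀ k : ℕ, N ⊔ (I ^ k) • (⊤ : Submodule A M) = ⊤ := by
    intro k
    induction k with
    | zero => simp
    | succ k ih =>
      rw [eq_top_iff]
      calc (⊤ : Submodule A M) = N ⊔ I • (⊤ : Submodule A M) := h.symm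
        _ = N ⊔ I • (N ⊔ (I ^ k) • (⊤ : Submodule A M)) := by rw [ih]
        _ = N ⊔ (I • N ⊔ I • ((I ^ k) • (⊤ : Submodule A M))) := by rw [Submodule.smul_sup]
        _ ≤ N ⊔ (I ^ (k + 1)) • (⊤ : Submodule A M) := by
          refine sup_le le_sup_left (sup_le ?_ ?_)
          · exact le_trans Submodule.smul_le_right le_sup_left
          · rw [← Submodule.mul_smul, ← pow_succ']
            exact le_sup_right
  have := key n
  rw [hn] at this
  simpa using this

/-- A ring map which is surjective modulo a nilpotent ideal of the base is surjective. -/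
lemma surjective_of_range_sup {A C D : Type*} [CommRing A] [CommRing C] [CommRing D]
    (ψ : A →+* C) (φ : C →+* D) (I : Ideal A) (hI : IsNilpotent I)
    (h : ∀ d : D, ∃ c : C, d - φ c ∈ I.map (φ.comp ψ)) : Function.Surjective φ := by
  algebraize [φ]
  have hJ : IsNilpotent (I.map ψ) := by
    obtain ⟨n, hn⟩ := hI
    refine ⟨n, ?_⟩
    rw [← Ideal.map_pow, hn, Ideal.zero_eq_bot, Ideal.map_bot]
    rfl
  have key : LinearMap.range (Algebra.linearMap C D) ⊔ (I.map ψ) • (⊤ : Submodule C D) = ⊤ := by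
    rw [eq_top_iff]
    intro d _
    obtain ⟨c, hc⟩ := h d
    have hd : d = φ c + (d - φ c) := by ring
    rw [hd]
    refine Submodule.add_mem_sup ⟨c, rfl⟩ ?_
    rw [Ideal.smul_top_eq_map]
    change d - φ c ∈ (I.map ψ).map (algebraMap C D)
    rw [Ideal.map_map]
    exact hc
  have := eq_top_of_sup_smul_eq_top (I.map ψ) hJ _ key
  rw [LinearMap.range_eq_top] at this
  exact this

/-- Finite type lifts along a quotient by (a sub-ideal of) the extension of a nilpotent ideal. -/
lemma finiteType_of_quot {A D R : Type*} [CommRing A] [CommRing D] [CommRing R]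
    (ψ : A →+* D) (π : D →+* R) (I : Ideal A) (hI : IsNilpotent I)
    (hπ : Function.Surjective π) (hker : RingHom.ker π ≤ I.map ψ)
    (hft : (π.comp ψ).FiniteType) : ψ.FiniteType := by
  classical
  letI := ψ.toAlgebra
  letI := (π.comp ψ).toAlgebra
  let πa : D →ₐ[A] R := ⟨π, fun a => rfl⟩
  have hft' : Algebra.FiniteType A R := hft
  obtain ⟨s, hs⟩ := hft'.out
  choose! l hl using hπ
  obtain ⟨t, ht⟩ : ∃ t : Finset D, t = s.image l := ⟨_, rfl⟩
  have hts : (πa '' (t : Set D)) = (s : Set R) := by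
    rw [ht, Finset.coe_image, Set.image_image]
    have : (fun x => πa (l x)) = id := funext fun x => hl x
    rw [this, Set.image_id]
  have key : Subalgebra.toSubmodule (Algebra.adjoin A (t : Set D)) ⊔
      I • (⊤ : Submodule A D) = ⊤ := by
    rw [eq_top_iff]
    intro d _
    have h1 : πa d ∈ (Algebra.adjoin A (t : Set D)).map πa := by
      rw [AlgHom.map_adjoin, hts, hs]
      exact Algebra.mem_top
    obtain ⟨d', hd', hdd'⟩ := h1
    have hd : d = d' + (d - d') := by ring
    rw [hd]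
    refine Submodule.add_mem_sup hd' ?_
    rw [Ideal.smul_top_eq_map]
    change d - d' ∈ I.map (algebraMap A D)
    apply hker
    rw [RingHom.mem_ker, map_sub, sub_eq_zero]
    exact hdd'.symm
  have h2 := eq_top_of_sup_smul_eq_top I hI _ key
  refine ⟨⟨t, ?_⟩⟩
  apply Subalgebra.toSubmodule_injective
  rw [h2]
  rfl

end Alg

section Sch

variable {A : Type u} [CommRing A] (I : Ideal A)

/-- The closed immersion `Spec (A/I) ⟶ Spec A`. -/
noncomputable abbrev incl : Spec (CommRingCat.of (A ⧸ I)) ⟶ Spec (CommRingCat.of A) :=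
  Spec.map (CommRingCat.ofHom (Ideal.Quotient.mk I))

instance : IsClosedImmersion (incl I) :=
  IsClosedImmersion.spec_of_surjective _ Ideal.Quotient.mk_surjective

lemma le_nilradical_of_isNilpotent {I : Ideal A} (hI : IsNilpotent I) : I ≤ nilradical A := by
  obtain ⟨n, hn⟩ := hI
  intro a ha
  refine ⟨n, ?_⟩
  have := Ideal.pow_mem_pow ha n
  rw [hn] at this
  simpa using this

lemma surjective_incl (hI : IsNilpotent I) : Function.Surjective (incl I) := by
  intro p
  have hp : ∀ p : PrimeSpectrum A,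
      p ∈ Set.range (PrimeSpectrum.comap (Ideal.Quotient.mk I)) := by
    intro p
    rw [range_comap_of_surjective _ _ Ideal.Quotient.mk_surjective,
      Ideal.mk_ker, PrimeSpectrum.mem_zeroLocus]
    exact le_trans (le_nilradical_of_isNilpotent hI) (nilradical_le_prime p.asIdeal)
  obtain ⟨q, hq⟩ := hp p
  exact ⟨q, hq⟩

lemma surjective_inst (hI : IsNilpotent I) : Surjective (incl I) := ⟨surjective_incl I hI⟩

variable {X : Scheme.{u}} (x : X ⟶ Spec (CommRingCat.of A))

/-- The structure ring map of an affine open of a scheme over `Spec A`. -/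
noncomputable def str {V : X.Opens} (hV : IsAffineOpen V) : CommRingCat.of A ⟶ Γ(X, V) :=
  Spec.preimage (hV.fromSpec ≫ x)

lemma map_str {V : X.Opens} (hV : IsAffineOpen V) : Spec.map (str x hV) = hV.fromSpec ≫ x :=
  Spec.map_preimage _

lemma str_comp {Y : Scheme.{u}} (u : X ⟶ Y) (y : Y ⟶ Spec (CommRingCat.of A)) {W : Y.Opens}
    (hW : IsAffineOpen W) {V : X.Opens} (hV : IsAffineOpen V) (e : V ≤ u ⁻¹ᵁ W) :
    str (u ≫ y) hV = str y hW ≫ u.appLE W V e := by
  apply Spec.map_injective
  rw [map_str, Spec.map_comp, map_str, IsAffineOpen.SpecMap_appLE_fromSpec_assoc u hW hV e]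

lemma str_eq {V : X.Opens} (hV : IsAffineOpen V) :
    str x hV = (Scheme.ΓSpecIso (CommRingCat.of A)).inv ≫ x.appLE ⊤ V le_top := by
  apply Spec.map_injective
  rw [map_str, Spec.map_comp, ← IsAffineOpen.SpecMap_appLE_fromSpec x (isAffineOpen_top _) hV le_top,
    IsAffineOpen.fromSpec_top, Scheme.isoSpec_Spec_inv]

/-- Key lemma: the kernel of restriction to the base change along `A → A/I` is inside `I·Γ(X,V)`. -/
theorem ker_le {V : X.Opens} (hV : IsAffineOpen V) :
    RingHom.ker ((pullback.fst x (incl I)).app V).hom ≤ I.map (str x hV).hom := by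
  obtain ⟨p, hp⟩ : ∃ p, p = pullback.fst x (incl I) := ⟨_, rfl⟩
  obtain ⟨ψ, hψ⟩ : ∃ ψ, ψ = str x hV := ⟨_, rfl⟩
  obtain ⟨J, hJ⟩ : ∃ J, J = I.map ψ.hom := ⟨_, rfl⟩
  obtain ⟨t₁, ht₁⟩ : ∃ t₁ : Spec (CommRingCat.of (Γ(X, V) ⧸ J)) ⟶ X,
      t₁ = Spec.map (CommRingCat.ofHom (Ideal.Quotient.mk J)) ≫ hV.fromSpec := ⟨_, rfl⟩
  have hle : I ≤ J.comap ψ.hom := by rw [hJ]; exact Ideal.le_comap_map
  obtain ⟨t₂, ht₂⟩ : ∃ t₂ : Spec (CommRingCat.of (Γ(X, V) ⧸ J)) ⟶ Spec (CommRingCat.of (A ⧸ I)),
      t₂ = Spec.map (CommRingCat.ofHom (Ideal.quotientMap J ψ.hom hle)) := ⟨_, rfl⟩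
  have hring : ψ ≫ CommRingCat.ofHom (Ideal.Quotient.mk J) =
      CommRingCat.ofHom (Ideal.Quotient.mk I) ≫
        CommRingCat.ofHom (Ideal.quotientMap J ψ.hom hle) := by
    ext a
    simp
  have h : t₁ ≫ x = t₂ ≫ incl I := by
    rw [ht₁, ht₂, Category.assoc, ← map_str x hV, ← hψ, ← Spec.map_comp, ← Spec.map_comp, hring]
  obtain ⟨l, hl⟩ : ∃ l, l = pullback.lift t₁ t₂ h := ⟨_, rfl⟩
  have hlp : l ≫ p = t₁ := by rw [hl, hp, pullback.lift_fst]
  have hV' : IsAffineOpen (p ⁻¹ᵁ V) := by
    rw [hp]; exact hV.preimage _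
  have hrange : Set.range l ⊆ Set.range hV'.fromSpec := by
    rw [hV'.range_fromSpec]
    rintro _ ⟨z, rfl⟩
    change p (l z) ∈ (V : Set X)
    have : p (l z) = t₁ z := by
      rw [← hlp]; rfl
    rw [this, ht₁, ← hV.range_fromSpec]
    exact ⟨_, rfl⟩
  obtain ⟨g, hg⟩ : ∃ g, g = IsOpenImmersion.lift hV'.fromSpec l hrange := ⟨_, rfl⟩
  have hgl : g ≫ hV'.fromSpec = l := by rw [hg, IsOpenImmersion.lift_fac]
  have hgp : g ≫ Spec.map (p.app V) = Spec.map (CommRingCat.ofHom (Ideal.Quotient.mk J)) := by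
    rw [← cancel_mono hV.fromSpec, Category.assoc, Scheme.Hom.app_eq_appLE,
      IsAffineOpen.SpecMap_appLE_fromSpec p hV hV' le_rfl, ← Category.assoc, hgl, hlp, ht₁]
  have hγ : p.app V ≫ Spec.preimage g = CommRingCat.ofHom (Ideal.Quotient.mk J) := by
    apply Spec.map_injective
    rw [Spec.map_comp, Spec.map_preimage, hgp]
  intro d hd
  rw [RingHom.mem_ker] at hd
  have h1 : (p.app V ≫ Spec.preimage g).hom d = 0 := by
    rw [CommRingCat.hom_comp, RingHom.comp_apply, ← hp] at *
    rw [hd, map_zero]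
  rw [hγ] at h1
  rw [← hψ, ← hJ]
  exact Ideal.Quotient.eq_zero_iff_mem.mp h1

end Sch

end Groth.Agent.Helper2.ArtThick
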