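import Mathlib
import Groth.Agent.Lib.Helper2.ArtThick.Main

set_option autoImplicit false
set_option backward.isDefEq.respectTransparency.types false
set_option synthInstance.maxHeartbeats 400000
set_option maxHeartbeats 4000000
set_option linter.style.haveILetI false
set_option linter.unusedSectionVars false
set_option linter.unusedVariables false
set_option linter.unusedSimpArgs false
set_option linter.unnecessarySimpa false

universe u
open CategoryTheory CategoryTheory.Limits AlgebraicGeometry TopologicalSpace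

namespace Groth.Agent.Helper2.ArtThick

variable {A : Type u} [CommRing A] (I : Ideal A)

section One

variable {X : Scheme.{u}} (x : X ⟶ Spec (CommRingCat.of A))

theorem locallyOfFiniteType_of_base_change (hI : IsNilpotent I)
    (h : LocallyOfFiniteType (pullback.snd x (incl I))) : LocallyOfFiniteType x := by
  obtain ⟨p, hp⟩ : ∃ p, p = pullback.fst x (incl I) := ⟨_, rfl⟩
  have h1 : LocallyOfFiniteType (pullback.snd x (incl I) ≫ incl I) := inferInstance
  rw [← pullback.condition, ← hp] at h1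
  rw [HasRingHomProperty.iff_of_iSup_eq_top (P := @LocallyOfFiniteType) (fun V : X.affineOpens => V)
    (iSup_affineOpens_eq_top X)]
  intro V
  have hV : IsAffineOpen (V : X.Opens) := V.2
  have hV' : IsAffineOpen (p ⁻¹ᵁ (V : X.Opens)) := by rw [hp]; exact hV.preimage _
  have h2 := HasRingHomProperty.appLE (P := @LocallyOfFiniteType) _ h1 ⟨⊤, isAffineOpen_top _⟩
    ⟨p ⁻¹ᵁ (V : X.Opens), hV'⟩ le_top
  have h3 : (p ≫ x).appLE ⊤ (p ⁻¹ᵁ (V : X.Opens)) le_top =
      x.appLE ⊤ (V : X.Opens) le_top ≫ p.appLE (V : X.Opens) (p ⁻¹ᵁ (V : X.Opens)) le_rfl := by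
    rw [Scheme.Hom.appLE_comp_appLE]
  have h2' : RingHom.FiniteType ((p ≫ x).appLE ⊤ (p ⁻¹ᵁ (V : X.Opens)) le_top).hom := h2
  rw [h3, CommRingCat.hom_comp] at h2'
  have hIn : IsNilpotent (I.map (Scheme.ΓSpecIso (CommRingCat.of A)).inv.hom) := by
    obtain ⟨n, hn⟩ := hI
    refine ⟨n, ?_⟩
    rw [← Ideal.map_pow, hn, Ideal.zero_eq_bot, Ideal.map_bot]
    rfl
  refine finiteType_of_quot _ (p.appLE (V : X.Opens) (p ⁻¹ᵁ (V : X.Opens)) le_rfl).hom
    (I.map (Scheme.ΓSpecIso (CommRingCat.of A)).inv.hom) hIn ?_ ?_ h2'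
  · rw [← Scheme.Hom.app_eq_appLE, hp]
    exact (pullback.fst x (incl I)).app_surjective _ hV
  · rw [← Scheme.Hom.app_eq_appLE, Ideal.map_map, ← CommRingCat.hom_comp, ← str_eq x hV, hp]
    exact ker_le I x hV

theorem quasiCompact_of_base_change (hI : IsNilpotent I)
    (h : QuasiCompact (pullback.snd x (incl I))) : QuasiCompact x := by
  rw [HasAffineProperty.iff_of_isAffine (P := @QuasiCompact)] at h ⊢
  haveI := surjective_inst I hI
  have hs : Function.Surjective (pullback.fst x (incl I)) :=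
    (inferInstance : Surjective (pullback.fst x (incl I))).surj
  constructor
  rw [← Set.range_eq_univ.mpr hs]
  exact isCompact_range (pullback.fst x (incl I)).continuous

end One

section Two

variable {X Y Y' : Scheme.{u}}

lemma appLE_surjective_of_eq (u' : X ⟶ Y') [IsClosedImmersion u'] (U : Y'.Opens)
    (hU : IsAffineOpen U) (V : X.Opens) (e : V = u' ⁻¹ᵁ U) :
    Function.Surjective (u'.appLE U V e.le) := by
  subst e
  rw [← Scheme.Hom.app_eq_appLE]
  exact u'.app_surjective U hU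

lemma appLE_of_eq {f g : X ⟶ Y} (h : f = g) (U : Y.Opens) (V : X.Opens) (e : V ≤ f ⁻¹ᵁ U) :
    f.appLE U V e = g.appLE U V (h ▸ e) := by
  subst h; rfl

theorem isClosedImmersion_of_base_change (hI : IsNilpotent I)
    (x : X ⟶ Spec (CommRingCat.of A)) (y : Y ⟶ Spec (CommRingCat.of A)) (u : X ⟶ Y)
    (hu : u ≫ y = x) (q : Y' ⟶ Y) [IsClosedImmersion q] (u' : pullback x (incl I) ⟶ Y')
    [IsClosedImmersion u'] (hsq : u' ≫ q = pullback.fst x (incl I) ≫ u) :
    IsClosedImmersion u := by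
  obtain ⟨p, hp⟩ : ∃ p, p = pullback.fst x (incl I) := ⟨_, rfl⟩
  rw [← hp] at hsq
  haveI := surjective_inst I hI
  haveI hpc : IsClosedImmersion p := by rw [hp]; infer_instance
  have hs : Function.Surjective p := by
    rw [hp]; exact (inferInstance : Surjective (pullback.fst x (incl I))).surj
  have hpre : ∀ W : Y.Opens, p ⁻¹ᵁ (u ⁻¹ᵁ W) = u' ⁻¹ᵁ (q ⁻¹ᵁ W) := by
    intro W
    rw [← Scheme.Hom.comp_preimage, ← Scheme.Hom.comp_preimage, hsq]
  have haff : ∀ W : Y.Opens, IsAffineOpen W → IsAffineOpen (u ⁻¹ᵁ W) := by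
    intro W hW
    have hV' : IsAffineOpen (p ⁻¹ᵁ (u ⁻¹ᵁ W)) := by
      rw [hpre]; exact (hW.preimage q).preimage u'
    haveI : IsAffine (p ⁻¹ᵁ (u ⁻¹ᵁ W)).toScheme := hV'
    have hsr : Function.Surjective (p ∣_ (u ⁻¹ᵁ W)) := by
      rw [morphismRestrict_base]
      exact Set.restrictPreimage_surjective _ hs
    exact H9ThickAff.isAffine_of_thickening (p ∣_ (u ⁻¹ᵁ W)) hsr
  rw [isClosedImmersion_iff_isAffineHom]
  refine ⟨⟨haff⟩, fun W hW => ?_⟩
  have hV := haff W hW
  have hstr : (u.app W).hom.comp (str y hW).hom = (str x hV).hom := by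
    rw [← CommRingCat.hom_comp, Scheme.Hom.app_eq_appLE, ← str_comp u y hW hV le_rfl]
    subst hu; rfl
  refine surjective_of_range_sup (str y hW).hom (u.app W).hom I hI fun d => ?_
  rw [hstr]
  -- find `c`
  have e1 : p ⁻¹ᵁ (u ⁻¹ᵁ W) = u' ⁻¹ᵁ (q ⁻¹ᵁ W) := hpre W
  obtain ⟨c', hc'⟩ := appLE_surjective_of_eq u' (q ⁻¹ᵁ W) (hW.preimage q) _ e1 (p.app (u ⁻¹ᵁ W) d)
  obtain ⟨c, hc⟩ := q.app_surjective W hW c'
  refine ⟨c, ?_⟩
  have hk := ker_le I x hV
  rw [← hp] at hk
  apply hk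
  rw [RingHom.mem_ker, map_sub, sub_eq_zero]
  have h5 : u.app W ≫ p.app (u ⁻¹ᵁ W) =
      q.app W ≫ u'.appLE (q ⁻¹ᵁ W) (p ⁻¹ᵁ (u ⁻¹ᵁ W)) e1.le := by
    rw [Scheme.Hom.app_eq_appLE, Scheme.Hom.app_eq_appLE, Scheme.Hom.app_eq_appLE,
      Scheme.Hom.appLE_comp_appLE, Scheme.Hom.appLE_comp_appLE]
    exact (appLE_of_eq hsq _ _ _).symm
  have h6 := congrArg (fun f => f.hom c) h5
  simp only [CommRingCat.hom_comp, RingHom.comp_apply] at h6
  change (p.app (u ⁻¹ᵁ W)).hom d = (p.app (u ⁻¹ᵁ W)).hom ((u.app W).hom c)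
  rw [h6]
  change _ = (u'.appLE (q ⁻¹ᵁ W) (p ⁻¹ᵁ (u ⁻¹ᵁ W)) e1.le) ((q.app W) c)
  rw [hc, hc']

theorem isImmersion_of_base_change (hI : IsNilpotent I)
    (x : X ⟶ Spec (CommRingCat.of A)) (y : Y ⟶ Spec (CommRingCat.of A)) (u : X ⟶ Y)
    (hu : u ≫ y = x) (u' : pullback x (incl I) ⟶ pullback y (incl I))
    [IsImmersion u'] (hsq : u' ≫ pullback.fst y (incl I) = pullback.fst x (incl I) ≫ u) :
    IsImmersion u := by
  haveI := surjective_inst I hI
  obtain ⟨pY, hpY⟩ : ∃ pY, pY = pullback.fst y (incl I) := ⟨_, rfl⟩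
  obtain ⟨pX, hpX⟩ : ∃ pX, pX = pullback.fst x (incl I) := ⟨_, rfl⟩
  rw [← hpY, ← hpX] at hsq
  haveI : IsClosedImmersion pY := by rw [hpY]; infer_instance
  have hsY : Function.Surjective pY := by
    rw [hpY]; exact (inferInstance : Surjective (pullback.fst y (incl I))).surj
  have hsX : Function.Surjective pX := by
    rw [hpX]; exact (inferInstance : Surjective (pullback.fst x (incl I))).surj
  obtain ⟨W, hWdef⟩ : ∃ W, W = H9ThickAff.img pY hsY u'.coborderRange := ⟨_, rfl⟩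
  have hW : pY ⁻¹ᵁ W = u'.coborderRange := by
    rw [hWdef]; exact H9ThickAff.preimage_img pY hsY _
  have hrange : Set.range u ⊆ Set.range W.ι := by
    rw [Scheme.Opens.range_ι]
    rintro _ ⟨z, rfl⟩
    obtain ⟨z', rfl⟩ := hsX z
    have h1 : u (pX z') = pY (u' z') := by
      have := congrArg (fun f : pullback x (incl I) ⟶ Y => f z') hsq
      simpa using this.symm
    rw [h1, hWdef]
    refine ⟨u' z', ?_, rfl⟩
    exact subset_coborder ⟨z', rfl⟩
  obtain ⟨uW, huWdef⟩ : ∃ uW, uW = IsOpenImmersion.lift W.ι u hrange := ⟨_, rfl⟩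
  have huW : uW ≫ W.ι = u := by rw [huWdef, IsOpenImmersion.lift_fac]
  obtain ⟨q, hq⟩ : ∃ q : (u'.coborderRange : Scheme) ⟶ (W : Scheme),
      q = ((pullback y (incl I)).isoOfEq hW.symm).hom ≫ (pY ∣_ W) := ⟨_, rfl⟩
  haveI : IsClosedImmersion q := by rw [hq]; infer_instance
  have hsq' : u'.liftCoborder ≫ q = pullback.fst x (incl I) ≫ uW := by
    rw [← cancel_mono W.ι, Category.assoc, Category.assoc, huW, hq, Category.assoc,
      morphismRestrict_ι, Scheme.isoOfEq_hom_ι_assoc, Scheme.Hom.liftCoborder_ι_assoc, hsq, hpX]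
  have hcl : IsClosedImmersion uW :=
    isClosedImmersion_of_base_change I hI x (W.ι ≫ y) uW
      (by rw [← Category.assoc, huW, hu]) q u'.liftCoborder hsq'
  rw [← huW]
  infer_instance

end Two

end Groth.Agent.Helper2.ArtThick
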