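import Mathlib
import Groth.Agent.Lib.Helper2.ArtThick.Thm

set_option autoImplicit false
set_option backward.isDefEq.respectTransparency.types false
set_option synthInstance.maxHeartbeats 400000
set_option maxHeartbeats 4000000
set_option linter.style.haveILetI false
set_option linter.unusedSectionVars false
set_option linter.unusedVariables false
set_option linter.unusedSimpArgs false
set_option linter.unnecessarySimpa false

universe u
open CategoryTheory CategoryTheory.Limits AlgebraicGeometry TopologicalSpace

namespace Groth.Agent.Helper2.ArtThick

theorem main5346 (A : Type u) [CommRing A] [IsArtinianRing A] [IsLocalRing A]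
    (X Y : Over (Spec (CommRingCat.of A))) (u : X ⟶ Y) :
    letI i : Spec (CommRingCat.of (IsLocalRing.ResidueField A)) ⟶ (Spec (CommRingCat.of A)) :=
      Spec.map (CommRingCat.ofHom (IsLocalRing.residue A))
    (LocallyOfFiniteType (pullback.snd X.hom i) → LocallyOfFiniteType X.hom) ∧
    (LocallyOfFiniteType (pullback.snd X.hom i) → QuasiCompact (pullback.snd X.hom i) →
      QuasiCompact X.hom) ∧
    (IsImmersion ((Over.pullback i).map u).left → IsImmersion u.left) ∧
    (IsClosedImmersion ((Over.pullback i).map u).left → IsClosedImmersion u.left) := by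
  have hI : IsNilpotent (IsLocalRing.maximalIdeal A) := by
    have := IsArtinianRing.isNilpotent_jacobson_bot (R := A)
    rwa [IsLocalRing.jacobson_eq_maximalIdeal ⊥ bot_ne_top] at this
  have hi : Spec.map (CommRingCat.ofHom (IsLocalRing.residue A)) =
      incl (IsLocalRing.maximalIdeal A) := rfl
  rw [hi]
  refine ⟨?_, ?_, ?_, ?_⟩
  · intro h
    exact locallyOfFiniteType_of_base_change (IsLocalRing.maximalIdeal A) X.hom hI h
  · intro _ h
    exact quasiCompact_of_base_change (IsLocalRing.maximalIdeal A) X.hom hI h
  · intro h
    haveI h' : @IsImmersion (pullback X.hom (incl (IsLocalRing.maximalIdeal A)))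
      (pullback Y.hom (incl (IsLocalRing.maximalIdeal A)))
      ((Over.pullback (incl (IsLocalRing.maximalIdeal A))).map u).left := h
    refine isImmersion_of_base_change (IsLocalRing.maximalIdeal A) hI X.hom Y.hom u.left
      (Over.w u) ((Over.pullback (incl (IsLocalRing.maximalIdeal A))).map u).left ?_
    exact pullback.lift_fst _ _ _
  · intro h
    haveI h' : @IsClosedImmersion (pullback X.hom (incl (IsLocalRing.maximalIdeal A)))
      (pullback Y.hom (incl (IsLocalRing.maximalIdeal A)))
      ((Over.pullback (incl (IsLocalRing.maximalIdeal A))).map u).left := h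
    refine isClosedImmersion_of_base_change (IsLocalRing.maximalIdeal A) hI X.hom Y.hom u.left
      (Over.w u) (pullback.fst Y.hom (incl (IsLocalRing.maximalIdeal A)))
      ((Over.pullback (incl (IsLocalRing.maximalIdeal A))).map u).left ?_
    exact pullback.lift_fst _ _ _

end Groth.Agent.Helper2.ArtThick
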